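import Mathlib

/-!
Small facts on normal `p`-subgroups and coprime intersections, for the minimal non-closed groups.
-/

set_option autoImplicit false

open Subgroup

namespace CfsgLib.MinNonClosed

universe u

variable {G : Type u} [Group G] [Finite G] {p : ℕ} [hp : Fact p.Prime]

omit [Finite G] in
lemma eq_one_of_mem_of_pgroup {N S : Subgroup G} (hpN : ¬ p ∣ Nat.card N) (hS : IsPGroup p S)
    {x : G} (hxN : x ∈ N) (hxS : x ∈ S) : x = 1 := by
  obtain ⟨k, hk⟩ := IsPGroup.iff_orderOf.mp hS ⟨x, hxS⟩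
  rw [Subgroup.orderOf_mk] at hk
  have h1 : orderOf x ∣ Nat.card N := by
    have := orderOf_dvd_natCard (⟨x, hxN⟩ : N)
    rwa [Subgroup.orderOf_mk] at this
  rcases Nat.eq_zero_or_pos k with rfl | hk0
  · exact orderOf_eq_one_iff.mp (by simpa using hk)
  · exact absurd ((dvd_pow_self p hk0.ne').trans (hk ▸ h1)) hpN

omit [Finite G] in
lemma le_of_isPGroup_of_normal_sylow [Finite (Sylow p G)] {R : Subgroup G} (hR : IsPGroup p R)
    (S : Sylow p G) (hS : (S : Subgroup G).Normal) : R ≤ (S : Subgroup G) := by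
  obtain ⟨T, hT⟩ := hR.exists_le_sylow
  obtain ⟨g, hg⟩ := MulAction.exists_smul_eq G S T
  have hn : g ∈ normalizer (((S : Subgroup G)) : Set G) :=
    (normalizer_eq_top_iff.mpr hS).ge (mem_top g)
  rw [Sylow.smul_eq_iff_mem_normalizer.mpr hn] at hg
  rwa [hg]

omit [Finite G] hp in
lemma commute_of_mem_normal_of_inter {H : Subgroup G} {N : Subgroup G} [N.Normal]
    (L : Subgroup H) (hL : L.Normal) (hinter : ∀ z : H, (z : G) ∈ N → z ∈ L → z = 1)
    {x y : G} (hxH : x ∈ H) (hx : (⟨x, hxH⟩ : H) ∈ L) (hy : y ∈ N) (hyH : y ∈ H) :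
    x * y = y * x := by
  have hd : Disjoint L (N.subgroupOf H) := by
    rw [disjoint_iff_inf_le]
    exact fun z hz => hinter z hz.2 hz.1
  have := commute_of_normal_of_disjoint L (N.subgroupOf H) hL inferInstance hd ⟨x, hxH⟩ ⟨y, hyH⟩
    hx hy
  exact congrArg Subtype.val this.eq

end CfsgLib.MinNonClosed
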