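import Mathlib
import Cfsg.Prelude.Def_Transfer
import Cfsg.Agent.Eq.Def_Transfer

/-!
An irreducible elementary abelian `q`-group under an element of prime order `p ≠ q` has order
`q ^ (multiplicative order of q mod p)`.
-/

set_option autoImplicit false

open Subgroup

namespace CfsgLib.MinNonClosed

universe u

variable {G : Type u} [Group G]

lemma normal_of_mem_normalizer {A B : Subgroup G} {x : G} (hgen : A ⊔ zpowers x = ⊤)
    (hA : A ≤ normalizer (B : Set G)) (hx : x ∈ normalizer (B : Set G)) : B.Normal :=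
  normalizer_eq_top_iff.mp (top_le_iff.mp (hgen ▸ sup_le hA (zpowers_le.mpr hx)))

lemma sup_zpowers_eq_top [Finite G] {A : Subgroup G} {p : ℕ} [hp : Fact p.Prime]
    (hidx : A.index = p) {x : G} (hx : x ∉ A) : A ⊔ zpowers x = ⊤ := by
  have h := relIndex_mul_index (le_sup_left : A ≤ A ⊔ zpowers x)
  rw [hidx] at h
  rcases hp.out.eq_one_or_self_of_dvd _ (dvd_of_mul_left_eq _ h) with h1 | h1
  · exact index_eq_one.mp h1
  · rw [h1] at h
    exact absurd ((relIndex_eq_one.mp ((Nat.mul_eq_right hp.out.ne_zero).mp h))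
      (mem_sup_right (mem_zpowers x))) hx

lemma le_normalizer_of_le_commutative {A B : Subgroup G} (hA : IsMulCommutative A) (hB : B ≤ A) :
    A ≤ normalizer (B : Set G) := by
  intro a ha
  rw [mem_normalizer_iff]
  intro b
  constructor
  · intro hb
    have h : a * b = b * a := congrArg Subtype.val (hA.1.comm ⟨a, ha⟩ ⟨b, hB hb⟩)
    rw [h]; simpa using hb
  · intro hb
    have h : (a * b * a⁻¹) * a = a * (a * b * a⁻¹) :=
      congrArg Subtype.val (hA.1.comm ⟨_, hB hb⟩ ⟨a, ha⟩)
    have e : b = a * b * a⁻¹ := mul_left_cancel (a := a) (by rw [← h]; group)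
    rwa [← e] at hb

open Polynomial in
lemma card_le_of_forall_pow_eq {R : Type*} [CommRing R] [IsDomain R] [Finite R] {n : ℕ}
    (hn : 1 < n) (h : ∀ x : R, x ^ n = x) : Nat.card R ≤ n := by
  classical
  haveI := Fintype.ofFinite R
  have hne : (X ^ n - X : R[X]) ≠ 0 := fun he => by
    have := congrArg (fun f : R[X] => f.coeff n) he
    simp [coeff_X, hn.ne] at this
  rw [Nat.card_eq_fintype_card]
  calc Fintype.card R ≤ (X ^ n - X : R[X]).roots.toFinset.card := by
        rw [← Finset.card_univ]
        refine Finset.card_le_card fun t _ => ?_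
        rw [Multiset.mem_toFinset, mem_roots hne]
        simp [h t]
    _ ≤ Multiset.card (X ^ n - X : R[X]).roots := Multiset.toFinset_card_le _
    _ ≤ (X ^ n - X : R[X]).natDegree := card_roots' _
    _ ≤ n := by
        refine (natDegree_sub_le _ _).trans ?_
        rw [natDegree_X_pow, natDegree_X]
        omega

open Polynomial in
set_option maxHeartbeats 1000000 in
/-- An irreducible finite module of an element of order dividing `p` in characteristic `q`. -/
theorem card_module_le {M : Type u} [AddCommGroup M] [Finite M] {p q : ℕ} [hp : Fact p.Prime]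
    (hq : q.Prime) (hpq : q ≠ p) (σ : AddMonoid.End M) (hσp : σ ^ p = 1)
    (hqM : ∀ m : M, q • m = 0)
    (hsub : ∀ S : AddSubgroup M, (∀ m ∈ S, σ m ∈ S) → S = ⊥ ∨ S = ⊤)
    (m₀ : M) (hm₀ : m₀ ≠ 0) : Nat.card M ≤ q ^ orderOf (q : ZMod p) := by
  classical
  haveI : Fact q.Prime := ⟨hq⟩
  let e : ℤ[X] →+* AddMonoid.End M := Polynomial.eval₂RingHom' (Int.castRingHom _) σ
    (fun z => Int.cast_commute z σ)
  let I := RingHom.ker e
  let T := ℤ[X] ⧸ I
  let φ : T →+* AddMonoid.End M := RingHom.kerLift e
  have hφinj : Function.Injective φ := RingHom.kerLift_injective e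
  haveI : Finite (AddMonoid.End M) :=
    Finite.of_injective (fun f : AddMonoid.End M => (f : M → M)) DFunLike.coe_injective
  haveI : Finite T := Finite.of_injective φ hφinj
  have hcommσ : ∀ t : T, φ t * σ = σ * φ t := by
    intro t
    have : σ = φ (Ideal.Quotient.mk I X) := by
      show σ = e X; simp [e]
    rw [this, ← map_mul, ← map_mul, mul_comm]
  have hker : ∀ t : T, t ≠ 0 → Function.Injective (φ t) := by
    intro t ht
    let K : AddSubgroup M :=
      { carrier := {m | φ t m = 0}
        zero_mem' := map_zero (φ t)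
        add_mem' := fun {a b} ha hb => by
          show φ t (a + b) = 0
          rw [map_add, show φ t a = 0 from ha, show φ t b = 0 from hb, add_zero]
        neg_mem' := fun {a} ha => by
          show φ t (-a) = 0
          rw [map_neg, show φ t a = 0 from ha, neg_zero] }
    refine (injective_iff_map_eq_zero (φ t)).mpr fun m hm => ?_
    rcases hsub K (fun m hm => by
        have := congrArg (fun f : AddMonoid.End M => f m) (hcommσ t)
        simp only [AddMonoid.End.coe_mul, Function.comp_apply] at this
        show φ t (σ m) = 0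
        rw [this, show φ t m = 0 from hm, map_zero]) with h | h
    · have : m ∈ K := hm
      rwa [h, AddSubgroup.mem_bot] at this
    · refine absurd (hφinj (show φ t = φ 0 from DFunLike.ext _ _ fun m => ?_)) ht
      rw [map_zero]
      have : m ∈ K := h ▸ AddSubgroup.mem_top m
      exact this
  let ev : T →+ M :=
    { toFun := fun t => φ t m₀, map_zero' := by rw [map_zero]; rfl
      map_add' := fun s t => by rw [map_add]; rfl }
  have hev : Function.Bijective ev := by
    constructor
    · refine (injective_iff_map_eq_zero ev).mpr fun t ht => ?_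
      by_contra h
      exact hm₀ (hker t h (ht.trans (map_zero (φ t)).symm))
    · rw [← AddMonoidHom.range_eq_top]
      refine (hsub ev.range ?_).resolve_left fun h => hm₀ ?_
      · rintro _ ⟨t, rfl⟩
        refine ⟨Ideal.Quotient.mk I X * t, ?_⟩
        show φ (Ideal.Quotient.mk I X * t) m₀ = σ (φ t m₀)
        rw [map_mul]
        show (e X) (φ t m₀) = σ (φ t m₀)
        simp [e]
      · have : m₀ ∈ ev.range := ⟨1, by show φ 1 m₀ = m₀; rw [map_one]; rfl⟩
        rwa [h, AddSubgroup.mem_bot] at this
  haveI : Nontrivial T := nontrivial_of_ne 1 0 fun h => hm₀ (by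
    have := congrArg ev h
    rw [map_zero] at this
    rw [← this]; show m₀ = φ 1 m₀; rw [map_one]; rfl)
  haveI : NoZeroDivisors T := ⟨fun {s t} h => by
    by_contra hc
    push_neg at hc
    have : φ s (φ t m₀) = φ s 0 := by
      have := congrArg (fun f : AddMonoid.End M => f m₀) (congrArg φ h)
      simp only [map_mul, map_zero] at this ⊢
      exact this
    exact hm₀ (hker t hc.2 ((hker s hc.1 this).trans (map_zero (φ t)).symm))⟩
  haveI : IsDomain T := NoZeroDivisors.to_isDomain _
  have hqT : (q : T) = 0 := by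
    apply hφinj
    rw [map_natCast, map_zero]
    refine DFunLike.ext _ _ fun m => ?_
    rw [AddMonoid.End.natCast_apply]
    exact hqM m
  haveI : CharP T q := (CharP.charP_iff_prime_eq_zero hq).mpr hqT
  set d := orderOf (q : ZMod p) with hd
  have hqd : (q : ZMod p) ^ d = 1 := pow_orderOf_eq_one _
  have hq0 : (q : ZMod p) ≠ 0 := fun h =>
    hpq ((Nat.prime_dvd_prime_iff_eq hp.out hq).mp ((ZMod.natCast_eq_zero_iff _ _).mp h)).symm
  have hdpos : 0 < d := (isOfFinOrder_iff_pow_eq_one.mpr ⟨p - 1, Nat.sub_pos_of_lt hp.out.one_lt,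
    ZMod.pow_card_sub_one_eq_one hq0⟩).orderOf_pos
  have hXp : (Ideal.Quotient.mk I X) ^ p = 1 := by
    apply hφinj
    rw [map_pow, map_one]
    show (e X) ^ p = 1
    simpa [e] using hσp
  have hfix : ∀ t : T, t ^ q ^ d = t := by
    have hfr : (iterateFrobenius T q d).comp (Ideal.Quotient.mk I) = Ideal.Quotient.mk I := by
      refine Polynomial.ringHom_ext' (Subsingleton.elim _ _) ?_
      show (Ideal.Quotient.mk I X) ^ q ^ d = Ideal.Quotient.mk I X
      have h1 : q ^ d % p = 1 := by
        have h2 : ((q ^ d : ℕ) : ZMod p) = ((1 : ℕ) : ZMod p) := by push_cast; exact hqd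
        rw [ZMod.natCast_eq_natCast_iff'] at h2
        rw [h2, Nat.mod_eq_of_lt hp.out.one_lt]
      conv_lhs => rw [← Nat.div_add_mod (q ^ d) p, h1, pow_succ, pow_mul, hXp, one_pow, one_mul]
    intro t
    obtain ⟨f, rfl⟩ := Ideal.Quotient.mk_surjective t
    exact congrArg (fun r : ℤ[X] →+* T => r f) hfr
  refine le_trans (le_of_eq (Nat.card_congr (Equiv.ofBijective ev hev)).symm) ?_
  exact card_le_of_forall_pow_eq (Nat.one_lt_pow hdpos.ne' hq.one_lt) hfix

set_option maxHeartbeats 1000000 in
/-- The order of an irreducible module for a group of prime order. -/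
theorem card_irreducible [Finite G] {p q : ℕ} [hp : Fact p.Prime] (hq : q.Prime) (hpq : q ≠ p)
    (hna : ¬ IsMulCommutative G) (A : Subgroup G) [A.Normal] (hA : Cfsg.IsElementaryAbelian q A)
    (hidx : A.index = p) (hmin : ∀ B : Subgroup G, B.Normal → B ≤ A → B = ⊥ ∨ B = A) :
    Nat.card A = q ^ orderOf (q : ZMod p) := by
  classical
  haveI : Fact q.Prime := ⟨hq⟩
  obtain ⟨x, hx⟩ : ∃ x : G, x ∉ A := by
    by_contra h
    push_neg at h
    rw [show A = ⊤ from top_le_iff.mp fun g _ => h g, index_top] at hidx
    exact hp.out.one_lt.ne hidx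
  have hgen : A ⊔ zpowers x = ⊤ := sup_zpowers_eq_top hidx hx
  have hcA : ∀ a ∈ A, ∀ b ∈ A, a * b = b * a := fun a ha b hb =>
    congrArg Subtype.val (hA.1.1.comm ⟨a, ha⟩ ⟨b, hb⟩)
  have hxp : x ^ p ∈ A := hidx ▸ A.pow_index_mem x
  have hconj : ∀ a ∈ A, x * a * x⁻¹ ∈ A := fun a ha => ‹A.Normal›.conj_mem a ha x
  have hAne : A ≠ ⊥ := by
    intro h
    subst h
    rw [index_bot] at hidx
    haveI := isCyclic_of_prime_card hidx
    exact hna ⟨⟨fun a b => IsCyclic.commGroup.mul_comm a b⟩⟩
  haveI hcA' : IsMulCommutative A := hA.1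
  letI : CommGroup A := { (inferInstance : Group A) with mul_comm := fun a b => hcA'.1.comm a b }
  let M := Additive A
  let σ : AddMonoid.End M := MonoidHom.toAdditive ((MulAut.conjNormal x : MulAut A).toMonoidHom)
  have hσ : ∀ m : M, ((Additive.toMul (σ m) : A) : G) = x * ((Additive.toMul m : A) : G) * x⁻¹ :=
    fun m => MulAut.conjNormal_apply x (Additive.toMul m)
  -- the image and kernel of each element of `T` are `⊥` or everything
  have hsub : ∀ S : AddSubgroup M, (∀ m ∈ S, σ m ∈ S) → S = ⊥ ∨ S = ⊤ := by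
    intro S hS
    let B : Subgroup G := (AddSubgroup.toSubgroup' S).map A.subtype
    have hBA : B ≤ A := map_subtype_le _
    have hBn : B.Normal := by
      refine normal_of_mem_normalizer hgen (le_normalizer_of_le_commutative hA.1 hBA) ?_
      apply mem_normalizer_iff_map_conj_eq.mpr
      refine eq_of_le_of_card_ge ?_
        (le_of_eq (Nat.card_congr (B.equivMapOfInjective _ (MulAut.conj x).injective).toEquiv))
      rintro _ ⟨b, ⟨a, ha, rfl⟩, rfl⟩
      exact ⟨Additive.toMul (σ (Additive.ofMul a)), hS _ ha, hσ _⟩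
    rcases hmin B hBn hBA with h | h
    · left
      rw [eq_bot_iff]
      intro m hm
      have : ((Additive.toMul m : A) : G) ∈ B := ⟨Additive.toMul m, hm, rfl⟩
      rw [h, mem_bot] at this
      rw [AddSubgroup.mem_bot]
      exact Additive.toMul.injective (Subtype.ext this)
    · right
      rw [eq_top_iff]
      intro m _
      have hmB : ((Additive.toMul m : A) : G) ∈ B := by rw [h]; exact (Additive.toMul m : A).2
      obtain ⟨a, ha, hae⟩ := hmB
      have hae' : a = Additive.toMul m := Subtype.ext hae
      show Additive.ofMul (Additive.toMul m) ∈ S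
      rw [← hae']
      exact ha
  obtain ⟨m₀, hm₀⟩ : ∃ m : M, m ≠ 0 := by
    obtain ⟨a, ha⟩ := A.ne_bot_iff_exists_ne_one.mp hAne
    exact ⟨Additive.ofMul a, fun h => ha h⟩
  have hσp : σ ^ p = 1 := by
    have hpow : ∀ (j : ℕ) (m : M), ((Additive.toMul ((σ ^ j) m) : A) : G) =
        x ^ j * ((Additive.toMul m : A) : G) * (x ^ j)⁻¹ := by
      intro j
      induction j with
      | zero => intro m; simp
      | succ j ih =>
        intro m
        rw [pow_succ', AddMonoid.End.coe_mul, Function.comp_apply, hσ, ih, pow_succ' x]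
        group
    refine DFunLike.ext _ _ fun m => Additive.toMul.injective (Subtype.ext ?_)
    rw [hpow, hcA _ hxp _ (Additive.toMul m : A).2, mul_inv_cancel_right]
    rfl
  set d := orderOf (q : ZMod p) with hd
  have hqd : (q : ZMod p) ^ d = 1 := pow_orderOf_eq_one _
  have hq0 : (q : ZMod p) ≠ 0 := fun h =>
    hpq ((Nat.prime_dvd_prime_iff_eq hp.out hq).mp ((ZMod.natCast_eq_zero_iff _ _).mp h)).symm
  have hdpos : 0 < d := (isOfFinOrder_iff_pow_eq_one.mpr ⟨p - 1, Nat.sub_pos_of_lt hp.out.one_lt,
    ZMod.pow_card_sub_one_eq_one hq0⟩).orderOf_pos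
  have hqM : ∀ m : M, q • m = 0 := fun m => Additive.toMul.injective
    (show (Additive.toMul m : A) ^ q = 1 from Subtype.ext (hA.2 _ (Additive.toMul m : A).2))
  have hle : Nat.card A ≤ q ^ d :=
    (Nat.card_congr (Additive.ofMul (α := ↥A))).le.trans
      (card_module_le hq hpq σ hσp hqM hsub m₀ hm₀)
  -- conversely `p ∣ |A| - 1`
  obtain ⟨k, hk⟩ : ∃ k, Nat.card A = q ^ k := IsPGroup.iff_card.mp
    (fun a => ⟨1, by rw [pow_one]; exact Subtype.ext (hA.2 a a.2)⟩)
  have hfp : ∀ a ∈ A, x * a * x⁻¹ = a → a = 1 := by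
    intro a ha hax
    let B : Subgroup G := A ⊓ centralizer ({x} : Set G)
    have hB : B.Normal := by
      refine normal_of_mem_normalizer hgen (le_normalizer_of_le_commutative hA.1 inf_le_left) ?_
      rw [mem_normalizer_iff]
      intro b
      constructor
      · intro hb
        rw [show x * b * x⁻¹ = b by
          rw [← mem_centralizer_singleton_iff.mp hb.2, mul_inv_cancel_right]]
        exact hb
      · intro hb
        have h2 := mem_centralizer_singleton_iff.mp hb.2
        have e : b = x * b * x⁻¹ := by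
          have : x⁻¹ * ((x * b * x⁻¹) * x) = x⁻¹ * (x * (x * b * x⁻¹)) := by rw [h2]
          simpa [mul_assoc] using this
        rwa [e]
    rcases hmin B hB inf_le_left with h | h
    · have : a ∈ B := ⟨ha, mem_centralizer_singleton_iff.mpr (by
        conv_lhs => rw [← hax]
        group)⟩
      rwa [h, mem_bot] at this
    · exfalso
      apply hna
      have hc : ∀ b ∈ A, b * x = x * b := fun b hb =>
        mem_centralizer_singleton_iff.mp (h.ge hb).2
      have hxc : x ∈ center G := by
        rw [Subgroup.mem_center_iff]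
        intro g
        have hg : g ∈ centralizer ({x} : Set G) := (sup_le (h.ge.trans inf_le_right)
          (zpowers_le.mpr (mem_centralizer_singleton_iff.mpr rfl)) :
          A ⊔ zpowers x ≤ centralizer ({x} : Set G)) (hgen ▸ mem_top g)
        exact mem_centralizer_singleton_iff.mp hg
      have hAc : A ≤ center G := by
        intro b hb
        rw [Subgroup.mem_center_iff]
        intro g
        have hg : g ∈ centralizer ({b} : Set G) := (sup_le
          (fun a ha => mem_centralizer_singleton_iff.mpr (hcA a ha b hb))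
          (zpowers_le.mpr (mem_centralizer_singleton_iff.mpr (hc b hb).symm)) :
          A ⊔ zpowers x ≤ centralizer ({b} : Set G)) (hgen ▸ mem_top g)
        exact mem_centralizer_singleton_iff.mp hg
      exact ⟨⟨fun g h' => (Subgroup.mem_center_iff.mp
        ((sup_le hAc (zpowers_le.mpr hxc) : A ⊔ zpowers x ≤ center G) (hgen ▸ mem_top h')) g)⟩⟩
  haveI : Fintype M := Fintype.ofFinite M
  let π : Equiv.Perm M :=
    { toFun := σ
      invFun := ⇑(σ ^ (p - 1) : AddMonoid.End M)
      left_inv := fun m => by
        rw [← Function.comp_apply (f := ⇑(σ ^ (p - 1))), ← AddMonoid.End.coe_mul, ← pow_succ,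
          Nat.sub_add_cancel hp.out.pos, hσp]
        rfl
      right_inv := fun m => by
        rw [← Function.comp_apply (f := ⇑σ), ← AddMonoid.End.coe_mul, ← pow_succ',
          Nat.sub_add_cancel hp.out.pos, hσp]
        rfl }
  have hπp : π ^ p = 1 := by
    ext m
    rw [Equiv.Perm.coe_pow]
    have h : (⇑π)^[p] m = m := by
      show (⇑σ)^[p] m = m
      rw [← AddMonoid.End.coe_pow, hσp]
      rfl
    rw [h]
    rfl
  have hfix0 : π.support = Finset.univ.erase 0 := by
    ext m
    rw [Equiv.Perm.mem_support, Finset.mem_erase]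
    constructor
    · intro h
      refine ⟨fun h0 => h ?_, Finset.mem_univ _⟩
      rw [h0]; exact map_zero σ
    · rintro ⟨h, -⟩ h'
      apply h
      have := hfp _ (Additive.toMul m : A).2 (by rw [← hσ]; exact congrArg (fun z => ((Additive.toMul z : A) : G)) h')
      exact Additive.toMul.injective (Subtype.ext this)
  have hmod := Equiv.Perm.card_compl_support_modEq (n := 1) (σ := π) (p := p) (by rw [pow_one]; exact hπp)
  rw [hfix0, Finset.card_compl, Finset.card_erase_of_mem (Finset.mem_univ _), Finset.card_univ] at hmod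
  have hMcard : Fintype.card M = q ^ k := by rw [← hk, ← Nat.card_eq_fintype_card]; rfl
  rw [hMcard, show q ^ k - (q ^ k - 1) = 1 from by
    have := Nat.one_le_pow k q hq.pos; omega] at hmod
  have hdk : d ∣ k := by
    rw [hd, orderOf_dvd_iff_pow_eq_one, ← Nat.cast_pow, ← Nat.cast_one,
      ZMod.natCast_eq_natCast_iff]
    exact hmod.symm
  have hk0 : k ≠ 0 := by
    rintro rfl
    exact hAne (card_eq_one.mp (by rw [hk, pow_zero]))
  rw [hk]
  have hkd : k ≤ d := by
    rw [hk] at hle
    exact (Nat.pow_le_pow_iff_right hq.one_lt).mp hle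
  have : d ≤ k := Nat.le_of_dvd (Nat.pos_of_ne_zero hk0) hdk
  rw [le_antisymm hkd this]

end CfsgLib.MinNonClosed
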