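import Mathlib
import Cfsg.Agent.MinNonClosed.Irreducible

/-!
`G = P N` with `N` a minimal normal `p'`-subgroup, minimal with respect to `P` not being normal:
`|P| = p` and `N` is an irreducible elementary abelian `q`-group.
-/

set_option autoImplicit false

open Subgroup

namespace CfsgLib.MinNonClosed

universe u

variable {G : Type u} [Group G] [Finite G] {p : ℕ} [hp : Fact p.Prime]

/-- The structure of a group `P N` with `N` minimal normal, `p ∤ |N|`, in which proper subgroups
centralise between their `p`-parts and `N`, and proper quotients have normal Sylow subgroups. -/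
theorem structure_of_minimal {N : Subgroup G} [N.Normal] (hpN : ¬ p ∣ Nat.card N)
    (hQ : IsPGroup p (G ⧸ N))
    (hNmin : ∀ B : Subgroup G, B.Normal → B ≤ N → B = ⊥ ∨ B = N) (hNne : N ≠ ⊥)
    (hPnn : ∀ P : Sylow p G, ¬ (P : Subgroup G).Normal)
    (hcent : ∀ H R : Subgroup G, H ≠ ⊤ → R ≤ H → IsPGroup p R →
      ∀ x ∈ R, ∀ y ∈ N, y ∈ H → x * y = y * x)
    (hquo : ∀ (K : Subgroup G), K.Normal → K ≠ ⊥ → ∀ P : Sylow p G,
      (((P : Subgroup G) ⊔ K : Subgroup G)).Normal) :
    ∃ q : ℕ, q.Prime ∧ q ≠ p ∧ Nat.card G = p * q ^ orderOf (q : ZMod p) ∧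
      ∃ A : Subgroup G, A.Normal ∧ Nat.card ↥A = q ^ orderOf (q : ZMod p) ∧
        Cfsg.IsElementaryAbelian q A ∧
        ∀ B : Subgroup G, B.Normal → B ≤ A → B = ⊥ ∨ B = A := by
  classical
  let P : Sylow p G := default
  have hNP : ∀ S : Subgroup G, IsPGroup p S → N ⊓ S = ⊥ := fun S hS => by
    rw [eq_bot_iff]
    intro x hx
    obtain ⟨k, hk⟩ := IsPGroup.iff_orderOf.mp hS ⟨x, hx.2⟩
    rw [Subgroup.orderOf_mk] at hk
    have h1 : orderOf x ∣ Nat.card N := by
      have := orderOf_dvd_natCard (⟨x, hx.1⟩ : N)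
      rwa [Subgroup.orderOf_mk] at this
    rcases Nat.eq_zero_or_pos k with rfl | hk0
    · rw [mem_bot]; exact orderOf_eq_one_iff.mp (by simpa using hk)
    · exact absurd ((dvd_pow_self p hk0.ne').trans (hk ▸ h1)) hpN
  have hsup : (P : Subgroup G) ⊔ N = ⊤ := by
    rw [← index_eq_one]
    by_contra hne
    obtain ⟨r, hr, hrd⟩ := Nat.exists_prime_and_dvd hne
    obtain ⟨k, hk⟩ := hQ.exists_card_eq
    have h1 : r ∣ N.index := hrd.trans (index_dvd_of_le le_sup_right)
    rw [index, hk] at h1
    have := (Nat.prime_dvd_prime_iff_eq hr hp.out).mp (hr.dvd_of_dvd_pow h1)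
    subst this
    exact P.not_dvd_index (hrd.trans (index_dvd_of_le le_sup_left))
  have hPnotcent : ¬ ∀ x ∈ (P : Subgroup G), ∀ y ∈ N, x * y = y * x := by
    intro h
    refine hPnn P (normalizer_eq_top_iff.mp (top_le_iff.mp (hsup ▸ sup_le le_normalizer ?_)))
    intro y hy
    exact centralizer_le_normalizer _ (fun x hx => h x hx y hy)
  -- every element of `P` whose powers are not all of `P` centralises `N`
  have hsmall : ∀ R : Subgroup G, R ≤ (P : Subgroup G) → R ≠ (P : Subgroup G) →
      ∀ x ∈ R, ∀ y ∈ N, x * y = y * x := by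
    intro R hR hne x hx y hy
    refine hcent (R ⊔ N) R ?_ le_sup_left (P.2.to_le hR) x hx y hy (mem_sup_right hy)
    intro htop
    apply hne
    refine le_antisymm hR fun z hz => ?_
    have hz' : z ∈ (((R ⊔ N : Subgroup G)) : Set G) := by rw [htop]; trivial
    rw [mul_normal] at hz'
    obtain ⟨a, ha, b, hb, rfl⟩ := hz'
    have hbP : b ∈ (P : Subgroup G) := by simpa using mul_mem (inv_mem (hR ha)) hz
    have : b ∈ N ⊓ (P : Subgroup G) := ⟨hb, hbP⟩
    rw [hNP _ P.2, mem_bot] at this
    simpa [this] using ha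
  obtain ⟨g, hgP, hg⟩ : ∃ g ∈ (P : Subgroup G), zpowers g = (P : Subgroup G) := by
    by_contra hc
    push_neg at hc
    exact hPnotcent fun x hx y hy =>
      hsmall (zpowers x) (zpowers_le.mpr hx) (hc x hx) x (mem_zpowers x) y hy
  have hgp : g ^ p = 1 := by
    by_contra hne
    have hlt : zpowers (g ^ p) ≠ (P : Subgroup G) := by
      intro he
      obtain ⟨k, hk⟩ := IsPGroup.iff_orderOf.mp P.2 ⟨g, hgP⟩
      rw [Subgroup.orderOf_mk] at hk
      have h1 : Nat.card (zpowers (g ^ p)) = Nat.card (zpowers g) := by rw [he, hg]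
      rw [Nat.card_zpowers, Nat.card_zpowers, orderOf_pow, hk] at h1
      rcases Nat.eq_zero_or_pos k with rfl | hk0
      · have hg1 : g = 1 := orderOf_eq_one_iff.mp (by simpa using hk)
        exact hne (by rw [hg1, one_pow])
      · rw [Nat.gcd_eq_right (dvd_pow_self p hk0.ne')] at h1
        have := Nat.div_lt_self (pow_pos hp.out.pos k) hp.out.one_lt
        omega
    have hle : zpowers (g ^ p) ≤ (P : Subgroup G) := zpowers_le.mpr (pow_mem hgP p)
    haveI hK : (zpowers (g ^ p)).Normal := by
      refine normalizer_eq_top_iff.mp (top_le_iff.mp (hsup ▸ sup_le ?_ ?_))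
      · refine le_trans ?_ (centralizer_le_normalizer _)
        intro z hz u hu
        rw [← hg] at hz
        obtain ⟨i, rfl⟩ := mem_zpowers_iff.mp hz
        obtain ⟨j, rfl⟩ := mem_zpowers_iff.mp hu
        exact (((Commute.refl g).pow_left p).zpow_zpow j i).eq
      · refine le_trans ?_ (centralizer_le_normalizer _)
        intro y hy u hu
        exact hsmall _ hle hlt u hu y hy
    have := hquo (zpowers (g ^ p)) hK (fun h => hne (zpowers_eq_bot.mp h)) P
    rw [sup_eq_left.mpr hle] at this
    exact hPnn P this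
  have hg1 : g ≠ 1 := fun h => by
    apply hPnn P
    rw [← hg, h, zpowers_one_eq_bot]
    infer_instance
  have hordg : orderOf g = p := orderOf_eq_prime hgp hg1
  have hcardP : Nat.card ↥(P : Subgroup G) = p := by rw [← hg, Nat.card_zpowers, hordg]
  have hidx : N.index = p := by
    have hcompl : IsComplement' N (P : Subgroup G) := isComplement'_of_disjoint_and_mul_eq_univ
      (disjoint_iff.mpr (hNP _ P.2))
      (by rw [← normal_mul, sup_comm, hsup, coe_top])
    rw [hcompl.symm.index_eq_card, hcardP]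
  -- `N` is a `q`-group
  obtain ⟨q, hq, hqN⟩ := Nat.exists_prime_and_dvd (fun h => hNne (card_eq_one.mp h))
  haveI := Fact.mk hq
  have hqp : q ≠ p := fun h => hpN (h ▸ hqN)
  have hNq : IsPGroup q N := by
    by_contra hNq
    apply hPnotcent
    suffices h : N ⊓ centralizer ((P : Subgroup G) : Set G) = N from
      fun x hx y hy => (h.ge hy).2 x hx
    refine eq_of_le_of_card_ge inf_le_left (Nat.le_of_dvd Nat.card_pos ?_)
    rw [Nat.dvd_iff_prime_pow_dvd_dvd]
    intro r k hr hrk
    rcases Nat.eq_zero_or_pos k with rfl | hk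
    · simp
    haveI := Fact.mk hr
    let R : Sylow r N := default
    set R' : Subgroup G := (R : Subgroup N).map N.subtype with hR'
    have hfr : normalizer (R' : Set G) ⊔ N = ⊤ := Sylow.normalizer_sup_eq_top R
    obtain ⟨u, hu, hou⟩ : ∃ u ∈ normalizer (R' : Set G), orderOf u = p := by
      have h1 : p ∣ Nat.card ↥(normalizer (R' : Set G)) := by
        have e := relIndex_sup_right (normalizer (R' : Set G)) N
        rw [hfr, relIndex_top_right, hidx] at e
        exact e ▸ relIndex_dvd_card N _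
      obtain ⟨u, hu⟩ := exists_prime_orderOf_dvd_card' p h1
      exact ⟨u, u.2, by rw [Subgroup.orderOf_coe, hu]⟩
    have hU : IsPGroup p (zpowers u) := IsPGroup.of_card (n := 1) (by
      rw [Nat.card_zpowers, hou, pow_one])
    have hR'N : R' ≤ N := map_subtype_le _
    have hcomm : ∀ y ∈ R', u * y = y * u := by
      intro y hy
      refine hcent (zpowers u ⊔ R') (zpowers u) ?_ le_sup_left hU u (mem_zpowers u) y (hR'N hy)
        (mem_sup_right hy)
      intro htop
      apply hNq
      haveI : R'.Normal := normalizer_eq_top_iff.mp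
        (top_le_iff.mp (htop ▸ sup_le (zpowers_le.mpr hu) le_normalizer))
      have e := relIndex_sup_right (zpowers u) R'
      rw [htop, relIndex_top_right] at e
      have hd' : R'.index ∣ p := by
        rw [e]
        exact (relIndex_dvd_card R' (zpowers u)).trans (dvd_of_eq (by rw [Nat.card_zpowers, hou]))
      have hpu : Nat.card G ∣ p * Nat.card R' := by
        rw [← R'.card_mul_index, mul_comm p]
        exact Nat.mul_dvd_mul_left _ hd'
      rw [← N.card_mul_index, hidx, mul_comm] at hpu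
      obtain ⟨j, hj⟩ := IsPGroup.iff_card.mp R.2
      have hRR : Nat.card R' = r ^ j := by
        rw [hR', card_map_of_injective N.subtype_injective, hj]
      rw [hRR] at hpu
      have hd : Nat.card N ∣ r ^ j := Nat.dvd_of_mul_dvd_mul_left hp.out.pos hpu
      obtain ⟨i, -, hi⟩ := (Nat.dvd_prime_pow hr).mp hd
      have : q = r := (Nat.prime_dvd_prime_iff_eq hq hr).mp (hq.dvd_of_dvd_pow (hi ▸ hqN))
      subst this
      exact IsPGroup.of_card hi
    -- move `u` into `P`
    obtain ⟨S, hS⟩ := hU.exists_le_sylow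
    obtain ⟨c, hc⟩ := MulAction.exists_smul_eq G S P
    have hcu : zpowers (c * u * c⁻¹) = (P : Subgroup G) := by
      refine eq_of_le_of_card_ge (zpowers_le.mpr ?_) ?_
      · rw [← hc]; exact smul_mem_pointwise_smul _ (MulAut.conj c) _ (hS (mem_zpowers u))
      · rw [hcardP, Nat.card_zpowers]
        exact le_of_eq ((hou.symm).trans ((MulAut.conj c).orderOf_eq u).symm)
    have hle : R'.map (MulAut.conj c).toMonoidHom ≤ N ⊓ centralizer ((P : Subgroup G) : Set G) := by
      rintro _ ⟨y, hy, rfl⟩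
      refine ⟨‹N.Normal›.conj_mem y (hR'N hy) c, fun z hz => ?_⟩
      rw [SetLike.mem_coe, ← hcu] at hz
      obtain ⟨i, rfl⟩ := mem_zpowers_iff.mp hz
      have h0 : Commute (c * u * c⁻¹) (c * y * c⁻¹) := by
        show c * u * c⁻¹ * (c * y * c⁻¹) = c * y * c⁻¹ * (c * u * c⁻¹)
        calc c * u * c⁻¹ * (c * y * c⁻¹) = c * (u * y) * c⁻¹ := by group
          _ = c * (y * u) * c⁻¹ := by rw [hcomm y hy]
          _ = _ := by group
      exact (h0.zpow_left i).eq
    refine dvd_trans ?_ (card_dvd_of_le hle)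
    rw [card_map_of_injective (MulAut.conj c).injective, hR',
      card_map_of_injective N.subtype_injective, R.card_eq_multiplicity]
    exact pow_dvd_pow r ((hr.pow_dvd_iff_le_factorization Nat.card_pos.ne').mp hrk)
  -- `N` is elementary abelian
  haveI : Nontrivial N := (nontrivial_iff_ne_bot N).mpr hNne
  have hNab : IsMulCommutative N := by
    haveI := hNq.center_nontrivial
    have hc : ((center N).map N.subtype).Normal := inferInstance
    rcases hNmin _ hc (map_subtype_le _) with h | h
    · exfalso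
      rw [map_eq_bot_iff_of_injective _ N.subtype_injective] at h
      exact ((center N).nontrivial_iff_ne_bot.mp inferInstance) h
    · refine ⟨⟨fun a b => ?_⟩⟩
      obtain ⟨z, hz, he⟩ : (b : G) ∈ (center N).map N.subtype := h.symm ▸ b.2
      rw [show z = b from Subtype.ext he] at hz
      exact Subgroup.mem_center_iff.mp hz a
  have hNel : Cfsg.IsElementaryAbelian q N := by
    refine ⟨hNab, ?_⟩
    have hcomm : ∀ a ∈ N, ∀ b ∈ N, Commute a b := fun a ha b hb =>
      congrArg Subtype.val (hNab.1.comm ⟨a, ha⟩ ⟨b, hb⟩)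
    let E : Subgroup G :=
      { carrier := {a | a ∈ N ∧ a ^ q = 1}
        one_mem' := ⟨one_mem _, one_pow _⟩
        mul_mem' := fun {a b} ha hb => ⟨mul_mem ha.1 hb.1, by
          rw [(hcomm a ha.1 b hb.1).mul_pow, ha.2, hb.2, one_mul]⟩
        inv_mem' := fun {a} ha => ⟨inv_mem ha.1, by rw [inv_pow, ha.2, inv_one]⟩ }
    have hE : E.Normal := ⟨fun a ha c => ⟨‹N.Normal›.conj_mem a ha.1 c, by
      rw [conj_pow, ha.2, mul_one, mul_inv_cancel]⟩⟩
    rcases hNmin E hE (fun a ha => ha.1) with h | h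
    · exfalso
      obtain ⟨a, ha⟩ := exists_prime_orderOf_dvd_card' q hqN
      have : (a : G) ∈ E := ⟨a.2, by
        have e := pow_orderOf_eq_one a
        rw [ha] at e
        exact congrArg Subtype.val e⟩
      rw [h, mem_bot] at this
      rw [show a = 1 from Subtype.ext this, orderOf_one] at ha
      exact hq.one_lt.ne ha
    · exact fun a ha => (h.ge ha).2
  have hna : ¬ IsMulCommutative G := fun h => hPnn P ⟨fun x hx c => by
    rw [show c * x = x * c from h.1.comm c x, mul_inv_cancel_right]; exact hx⟩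
  have hcardN := card_irreducible hq hqp hna N hNel hidx hNmin
  refine ⟨q, hq, hqp, ?_, N, inferInstance, hcardN, hNel, hNmin⟩
  rw [← N.card_mul_index, hidx, hcardN, mul_comm]

/-- A minimal normal subgroup exists inside a nonsimple nontrivial finite group, and is proper. -/
lemma exists_minimal_normal (hns : ¬ IsSimpleGroup G) [Nontrivial G] :
    ∃ N : Subgroup G, N.Normal ∧ N ≠ ⊥ ∧ N ≠ ⊤ ∧
      ∀ B : Subgroup G, B.Normal → B ≤ N → B = ⊥ ∨ B = N := by
  obtain ⟨M, hM, hMb, hMt⟩ : ∃ M : Subgroup G, M.Normal ∧ M ≠ ⊥ ∧ M ≠ ⊤ := by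
    by_contra h
    push_neg at h
    exact hns ⟨fun M hM => (em (M = ⊥)).imp id (fun hb => h M hM hb)⟩
  obtain ⟨N, ⟨hNn, hNb, hNM⟩, hmin⟩ := Set.exists_min_image
    {N : Subgroup G | N.Normal ∧ N ≠ ⊥ ∧ N ≤ M} (fun N => Nat.card N) (Set.toFinite _)
    ⟨M, hM, hMb, le_rfl⟩
  refine ⟨N, hNn, hNb, fun h => hMt (top_le_iff.mp (h ▸ hNM)), fun B hB hBN => ?_⟩
  rcases em (B = ⊥) with h | h
  · exact Or.inl h
  · exact Or.inr (eq_of_le_of_card_ge hBN (hmin B ⟨hB, h, hBN.trans hNM⟩))

end CfsgLib.MinNonClosed
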